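import Cfsg.Agent.CT.Kernel
import Cfsg.Prelude.Def_Classical

/-!
# S4793 (the unitary exception for the conjugation character): vocabulary and pieces

FROZEN: do not edit the definitions (plan: `docs/Uni.md`).
-/

set_option autoImplicit false

namespace Cfsg.Uni

open Matrix Module

universe u

/-- a field with `q ^ 2` elements and its involution -/
class UF (F : Type u) [Field F] [Fintype F] [StarRing F] (q : outParam ℕ) : Prop where
  card : Fintype.card F = q ^ 2
  star_eq : ∀ x : F, star x = x ^ q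

/-- a nondegenerate hermitian form -/
structure HS (F : Type u) [Field F] [StarRing F] (V : Type u) [AddCommGroup V] [Module F V] where
  h : V → V → F
  add_left : ∀ x y z, h (x + y) z = h x z + h y z
  smul_left : ∀ (c : F) x y, h (c • x) y = c * h x y
  symm : ∀ x y, h y x = star (h x y)
  nd : ∀ x, (∀ y, h x y = 0) → x = 0

variable {F : Type u} [Field F] [StarRing F]

namespace HS

variable {V : Type u} [AddCommGroup V] [Module F V] (H : HS F V)

theorem add_right (x y z : V) : H.h x (y + z) = H.h x y + H.h x z := by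
  rw [H.symm, H.add_left, star_add, ← H.symm, ← H.symm]
theorem smul_right (c : F) (x y : V) : H.h x (c • y) = star c * H.h x y := by
  rw [H.symm, H.smul_left, star_mul', ← H.symm]
@[simp] theorem zero_left (x : V) : H.h 0 x = 0 := by simpa using H.smul_left 0 0 x
@[simp] theorem zero_right (x : V) : H.h x 0 = 0 := by rw [H.symm, H.zero_left, star_zero]
theorem neg_left (x y : V) : H.h (-x) y = -H.h x y := by simpa using H.smul_left (-1) x y
theorem neg_right (x y : V) : H.h x (-y) = -H.h x y := by simpa using H.smul_right (-1) x y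
theorem sub_left (x y z : V) : H.h (x - y) z = H.h x z - H.h y z := by
  rw [sub_eq_add_neg, H.add_left, H.neg_left, sub_eq_add_neg]
theorem sub_right (x y z : V) : H.h x (y - z) = H.h x y - H.h x z := by
  rw [sub_eq_add_neg, H.add_right, H.neg_right, sub_eq_add_neg]
theorem star_h (x y : V) : star (H.h x y) = H.h y x := (H.symm x y).symm
theorem eq_zero_comm {x y : V} : H.h x y = 0 ↔ H.h y x = 0 := by rw [H.symm x y, star_eq_zero]
theorem ext_left {x y : V} (e : ∀ z, H.h x z = H.h y z) : x = y :=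
  sub_eq_zero.1 (H.nd _ fun z => by rw [H.sub_left, e, sub_self])

/-- the general unitary group -/
def GU : Subgroup (V ≃ₗ[F] V) where
  carrier := {g | ∀ x y, H.h (g x) (g y) = H.h x y}
  one_mem' _ _ := rfl
  mul_mem' ha hb x y := (ha _ _).trans (hb x y)
  inv_mem' {g} hg x y := by rw [← hg]; simp

theorem iso (g : H.GU) (x y : V) : H.h (g.1 x) (g.1 y) = H.h x y := g.2 x y

variable {H} in
@[ext] theorem ext {g g' : H.GU} (e : ∀ x, g.1 x = g'.1 x) : g = g' := Subtype.ext (LinearEquiv.ext e)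

@[simp] theorem mul_apply (g g' : H.GU) (x : V) : (g * g').1 x = g.1 (g'.1 x) := rfl
@[simp] theorem one_apply (x : V) : (1 : H.GU).1 x = x := rfl
@[simp] theorem inv_apply_apply (g : H.GU) (x : V) : (g⁻¹).1 (g.1 x) = x := g.1.symm_apply_apply x
@[simp] theorem apply_inv_apply (g : H.GU) (x : V) : g.1 ((g⁻¹).1 x) = x := g.1.apply_symm_apply x

theorem iso_inv (g : H.GU) (x y : V) : H.h (g.1 x) y = H.h x ((g⁻¹).1 y) := by
  rw [← H.iso g x, apply_inv_apply]

instance [Finite V] : Finite H.GU :=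
  Finite.of_injective (fun g : H.GU => (g.1 : V → V)) fun _ _ e => ext (congrFun e)

/-- a homomorphism into the unitary group -/
def lift {P : Type*} [Group P] (φ : P →* Module.End F V)
    (hφ : ∀ p x y, H.h (φ p x) (φ p y) = H.h x y) : P →* H.GU where
  toFun p := ⟨LinearEquiv.ofLinear (φ p) (φ p⁻¹)
    (by rw [← Module.End.mul_eq_comp, ← map_mul, mul_inv_cancel, map_one]; rfl)
    (by rw [← Module.End.mul_eq_comp, ← map_mul, inv_mul_cancel, map_one]; rfl), hφ p⟩
  map_one' := ext fun x => by simp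
  map_mul' a b := ext fun x => by simp

/-- scalars -/
def sc : unitary F →* H.GU := H.lift ((algebraMap F (Module.End F V)).toMonoidHom.comp
  (unitary F).subtype) fun z x y => by
    change H.h (z.1 • x) (z.1 • y) = _
    have hz : z.1 * star z.1 = 1 := z.2.2
    rw [H.smul_left, H.smul_right, ← mul_assoc, hz, one_mul]

@[simp] theorem sc_apply (z : unitary F) (x : V) : (H.sc z).1 x = z.1 • x := rfl

theorem sc_comm (z : unitary F) (g : H.GU) : H.sc z * g = g * H.sc z := ext fun x => by simp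

/-- the fixed space -/
def fix (g : H.GU) : Submodule F V where
  carrier := {x | g.1 x = x}
  zero_mem' := map_zero _
  add_mem' ha hb := by simp only [Set.mem_setOf_eq, map_add] at *; rw [ha, hb]
  smul_mem' c x hx := by simp only [Set.mem_setOf_eq, map_smul] at *; rw [hx]

@[simp] theorem mem_fix {g : H.GU} {x : V} : x ∈ H.fix g ↔ g.1 x = x := Iff.rfl

/-- the total Weil character -/
noncomputable def omega (q : ℕ) (g : H.GU) : ℂ :=
  (-1) ^ finrank F V * (-(q : ℂ)) ^ finrank F (H.fix g)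

/-- the parameters of a Siegel transformation with isotropic centre `e` -/
structure SP (e : V) where
  v : V
  a : F
  ee : H.h e e = 0
  ve : H.h v e = 0
  rel : a + star a + H.h v v = 0

variable {H} {e : V}

/-- the linear map of a Siegel transformation -/
def SP.lin (p : H.SP e) : V →ₗ[F] V where
  toFun x := x + H.h x e • p.v + (H.h x e * p.a - H.h x p.v) • e
  map_add' x y := by simp only [H.add_left]; module
  map_smul' c x := by simp only [H.smul_left, RingHom.id_apply]; module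

/-- the inverse parameters -/
def SP.inv (p : H.SP e) : H.SP e :=
  ⟨-p.v, star p.a, p.ee, by rw [H.neg_left, p.ve, neg_zero], by
    rw [star_star, H.neg_left, H.neg_right, neg_neg, add_comm (star p.a), p.rel]⟩

theorem SP.lin_inv (p : H.SP e) (x : V) : p.lin (p.inv.lin x) = x := by
  have h1 : H.h e p.v = 0 := H.eq_zero_comm.1 p.ve
  have h2 : H.h p.v p.v = -p.a - star p.a := by linear_combination p.rel
  simp only [SP.lin, SP.inv, LinearMap.coe_mk, AddHom.coe_mk, H.add_left, H.smul_left, H.neg_left,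
    H.neg_right, p.ee, p.ve, h1, h2]
  module

/-- the Siegel transformation `x ↦ x + h(x,e) (v + a e) - h(x,v) e` -/
def SP.toGU (p : H.SP e) : H.GU :=
  ⟨LinearEquiv.ofLinear p.lin p.inv.lin (LinearMap.ext p.lin_inv)
    (LinearMap.ext fun x => by simpa [SP.inv] using p.inv.lin_inv x), fun x y => by
    have h1 : H.h e p.v = 0 := H.eq_zero_comm.1 p.ve
    have h2 : H.h p.v p.v = -p.a - star p.a := by linear_combination p.rel
    change H.h (p.lin x) (p.lin y) = _
    simp only [SP.lin, LinearMap.coe_mk, AddHom.coe_mk, H.add_left, H.smul_left, H.add_right,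
      H.smul_right, p.ee, p.ve, h1, h2, star_sub, star_mul', H.star_h]
    ring⟩

theorem SP.toGU_apply (p : H.SP e) (x : V) :
    p.toGU.1 x = x + H.h x e • p.v + (H.h x e * p.a - H.h x p.v) • e := rfl

variable (H e) in
/-- the unipotent radical of the stabiliser of the isotropic line `F e` -/
def Rad : Subgroup H.GU := Subgroup.closure (Set.range fun p : H.SP e => p.toGU)

/-- the transvection `x ↦ x + a h(x,e) e` -/
def tv (he : H.h e e = 0) {a : F} (ha : a + star a = 0) : H.GU :=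
  SP.toGU ⟨0, a, he, H.zero_left e, by rw [ha, H.zero_left, add_zero]⟩

theorem tv_apply (he : H.h e e = 0) {a : F} (ha : a + star a = 0) (x : V) :
    (tv he ha).1 x = x + (H.h x e * a) • e := by simp [tv, SP.toGU_apply]

/-- the vectors on which the transvections with centre `e` act by `ψ` -/
def plus {M : Type} [AddCommGroup M] [Module ℂ M] (ψ : AddChar F ℂ) (ρ : Representation ℂ H.GU M)
    (he : H.h e e = 0) : Submodule ℂ M where
  carrier := {m | ∀ (a : F) (ha : a + star a = 0), ρ (tv he ha) m = ψ a • m}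
  zero_mem' a ha := by simp
  add_mem' h1 h2 a ha := by rw [map_add, h1, h2, smul_add]
  smul_mem' c m h a ha := by rw [map_smul, h, smul_comm]

end HS

/-! ### the model `U ⊕ L ⊕ U'` -/

variable (ι : Type) [Fintype ι] [DecidableEq ι]

variable (F) in
/-- the model space -/
abbrev MV : Type u := (ι → F) × F × (ι → F)

variable (F) in
/-- the model form -/
def mh : HS F (MV F ι) where
  h x y := x.1 ⬝ᵥ star y.2.2 + x.2.1 * star y.2.1 + x.2.2 ⬝ᵥ star y.1
  add_left x y z := by simp only [Prod.fst_add, Prod.snd_add, add_dotProduct]; ring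
  smul_left c x y := by simp only [Prod.smul_fst, Prod.smul_snd, smul_dotProduct, smul_eq_mul]; ring
  symm x y := by
    simp only [star_add, star_mul', star_star, ← star_dotProduct_star, dotProduct_comm]; ring
  nd x h := by
    refine Prod.ext (funext fun i => ?_) (Prod.ext ?_ (funext fun i => ?_))
    · simpa using h (0, 0, Pi.single i 1)
    · simpa using h (0, 1, 0)
    · simpa using h (Pi.single i 1, 0, 0)

variable {ι} in
theorem mh_h (x y : MV F ι) :
    (mh F ι).h x y = x.1 ⬝ᵥ star y.2.2 + x.2.1 * star y.2.1 + x.2.2 ⬝ᵥ star y.1 := rfl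

variable (F) in
/-- the unitary group of the model -/
abbrev Γ : Type u := (mh F ι).GU

variable (F) in
/-- parameters of the unipotent radical `Q` of the stabiliser of `U` -/
@[ext] structure HQ where
  y : ι → F
  S : Matrix ι ι F
  rel : S + Sᴴ + vecMulVec y (star y) = 0

variable {ι}

instance : Mul (HQ F ι) := ⟨fun p r => ⟨p.y + r.y, p.S + r.S - vecMulVec p.y (star r.y), by
  have h1 := p.rel
  have h2 := r.rel
  simp only [conjTranspose_sub, conjTranspose_add, conjTranspose_vecMulVec, star_star, star_add,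
    add_vecMulVec, vecMulVec_add]
  linear_combination (norm := abel) h1 + h2⟩⟩
instance : One (HQ F ι) := ⟨⟨0, 0, by simp⟩⟩
instance : Inv (HQ F ι) := ⟨fun p => ⟨-p.y, p.Sᴴ, by simpa [add_comm p.Sᴴ] using p.rel⟩⟩

@[simp] theorem HQ.mul_y (p r : HQ F ι) : (p * r).y = p.y + r.y := rfl
@[simp] theorem HQ.mul_S (p r : HQ F ι) : (p * r).S = p.S + r.S - vecMulVec p.y (star r.y) := rfl
@[simp] theorem HQ.one_y : (1 : HQ F ι).y = 0 := rfl
@[simp] theorem HQ.one_S : (1 : HQ F ι).S = 0 := rfl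
@[simp] theorem HQ.inv_y (p : HQ F ι) : p⁻¹.y = -p.y := rfl
@[simp] theorem HQ.inv_S (p : HQ F ι) : p⁻¹.S = p.Sᴴ := rfl

instance : Group (HQ F ι) := Group.ofLeftAxioms
  (fun a b c => HQ.ext (add_assoc _ _ _) (by simp [add_vecMulVec, vecMulVec_add]; abel))
  (fun a => HQ.ext (zero_add _) (by simp))
  fun a => HQ.ext (neg_add_cancel _) (by simpa [add_comm a.Sᴴ] using a.rel)

/-- the unipotent radical `Q` -/
def qh : HQ F ι →* Γ F ι := (mh F ι).lift
  { toFun p :=
      { toFun x := (x.1 + x.2.1 • p.y + p.S *ᵥ x.2.2, x.2.1 - x.2.2 ⬝ᵥ star p.y, x.2.2)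
        map_add' x y := by simp [mulVec_add, add_smul]; constructor <;> abel
        map_smul' c x := by simp [mulVec_smul, mul_smul, mul_sub] }
    map_one' := LinearMap.ext fun x => by simp
    map_mul' p r := LinearMap.ext fun x => by
      simp [add_mulVec, sub_mulVec, vecMulVec_mulVec, sub_smul, dotProduct_comm]
      constructor <;> abel } fun p x y => by
  have := congrArg (fun S => (S *ᵥ x.2.2) ⬝ᵥ star y.2.2) p.rel
  simp only [add_mulVec, add_dotProduct, vecMulVec_mulVec, zero_mulVec, zero_dotProduct,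
    smul_dotProduct] at this
  have h2 : (p.Sᴴ *ᵥ x.2.2) ⬝ᵥ star y.2.2 = x.2.2 ⬝ᵥ star (p.S *ᵥ y.2.2) := by
    rw [star_mulVec, dotProduct_comm, dotProduct_mulVec, dotProduct_comm]
  simp [mh_h, ← star_dotProduct_star, dotProduct_comm] at this h2 ⊢
  linear_combination this - h2

theorem qh_apply (p : HQ F ι) (x : MV F ι) :
    (qh p).1 x = (x.1 + x.2.1 • p.y + p.S *ᵥ x.2.2, x.2.1 - x.2.2 ⬝ᵥ star p.y, x.2.2) := rfl

/-- the Levi factor `GL(U)` -/
noncomputable def lh : GL ι F →* Γ F ι := (mh F ι).lift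
  { toFun A := (toLin' A.1).prodMap (LinearMap.id.prodMap (toLin' (A⁻¹).1ᴴ))
    map_one' := LinearMap.ext fun x => by simp
    map_mul' A B := LinearMap.ext fun x => by simp } fun A x y => by
  have key : ∀ a b : ι → F, (A.1 *ᵥ a) ⬝ᵥ star ((A⁻¹).1ᴴ *ᵥ b) = a ⬝ᵥ star b := fun a b => by
    rw [star_mulVec, conjTranspose_conjTranspose, dotProduct_comm, ← dotProduct_mulVec,
      mulVec_mulVec, Units.inv_mul, one_mulVec, dotProduct_comm]
  have key2 : ∀ a b : ι → F, ((A⁻¹).1ᴴ *ᵥ b) ⬝ᵥ star (A.1 *ᵥ a) = b ⬝ᵥ star a := fun a b => by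
    rw [← star_star (_ ⬝ᵥ _), ← star_dotProduct_star, star_star, key, ← star_dotProduct_star,
      star_star]
  change (A.1 *ᵥ x.1) ⬝ᵥ star ((A⁻¹).1ᴴ *ᵥ y.2.2) + x.2.1 * star y.2.1 +
    ((A⁻¹).1ᴴ *ᵥ x.2.2) ⬝ᵥ star (A.1 *ᵥ y.1) = _
  rw [key, key2, mh_h]

theorem lh_apply (A : GL ι F) (x : MV F ι) :
    (lh A).1 x = (A.1 *ᵥ x.1, x.2.1, (A⁻¹).1ᴴ *ᵥ x.2.2) := rfl

variable (ι) in
/-- the torus acting on `L` -/
def dh : unitary F →* Γ F ι := (mh F ι).lift
  { toFun z := LinearMap.id.prodMap ((z.1 • LinearMap.id).prodMap LinearMap.id)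
    map_one' := LinearMap.ext fun x => by simp
    map_mul' a b := LinearMap.ext fun x => by simp [mul_assoc] } fun z x y => by
  have := z.2.2
  simp [mh_h]
  linear_combination (x.2.1 * star y.2.1) * this

theorem dh_apply (z : unitary F) (x : MV F ι) : (dh ι z).1 x = (x.1, z.1 * x.2.1, x.2.2) := rfl

/-- the linear map `e_i ↔ f_i`, `ℓ ↦ -ℓ` -/
def wlin (i : ι) : MV F ι →ₗ[F] MV F ι where
  toFun x := (Function.update x.1 i (x.2.2 i), -x.2.1, Function.update x.2.2 i (x.1 i))
  map_add' x y := by simp [Function.update_add, add_comm]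
  map_smul' c x := by simp [← Function.update_smul]

theorem wlin_wlin (i : ι) (x : MV F ι) : wlin i (wlin i x) = x := by simp [wlin]

theorem dot_update (a b : ι → F) (i : ι) (s t : F) :
    Function.update a i s ⬝ᵥ star (Function.update b i t) =
      a ⬝ᵥ star b - a i * star (b i) + s * star t := by
  simp only [dotProduct, ← Finset.add_sum_erase _ _ (Finset.mem_univ i), Pi.star_apply,
    Function.update_self]
  rw [Finset.sum_congr rfl fun j hj => by
    rw [Function.update_of_ne (Finset.ne_of_mem_erase hj),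
      Function.update_of_ne (Finset.ne_of_mem_erase hj)]]
  ring

variable (F) in
/-- the Weyl element `e_i ↔ f_i`, `ℓ ↦ -ℓ` -/
def wv (i : ι) : Γ F ι :=
  ⟨LinearEquiv.ofLinear (wlin i) (wlin i) (LinearMap.ext (wlin_wlin i)) (LinearMap.ext (wlin_wlin i)),
    fun x y => by
      change (mh F ι).h (wlin i x) (wlin i y) = _
      simp only [mh_h, wlin, LinearMap.coe_mk, AddHom.coe_mk, dot_update, star_neg]
      ring⟩

theorem wv_apply (i : ι) (x : MV F ι) :
    (wv F i).1 x = (Function.update x.1 i (x.2.2 i), -x.2.1, Function.update x.2.2 i (x.1 i)) := rfl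

theorem wv_wv (i : ι) : wv F i * wv F i = 1 := HS.ext (wlin_wlin i)

variable (F) in
/-- the basis vector `e_i` of `U` -/
def ev (i : ι) : MV F ι := (Pi.single i 1, 0, 0)

variable (F) in
theorem ev_iso (i : ι) : (mh F ι).h (ev F i) (ev F i) = 0 := by simp [mh_h, ev]

/-- the Singer cycle -/
noncomputable def sing {K : Type u} [Field K] [Algebra F K] (b : Basis ι F K) : Kˣ →* GL ι F :=
  Units.map (Algebra.leftMulMatrix b).toMonoidHom

/-- `ψ` is non-trivial on the skew elements -/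
def Psi (ψ : AddChar F ℂ) : Prop := ∃ a : F, a + star a = 0 ∧ ψ a ≠ 1

section

variable {M : Type} [AddCommGroup M] [Module ℂ M] (ψ : AddChar F ℂ)
  (ρ : Representation ℂ (Γ F ι) M)

/-- the weight space of a functional `φ` on `U` -/
def wt (φ : ι → F) : Submodule ℂ M where
  carrier := {m | ∀ p : HQ F ι, φ ⬝ᵥ p.y = 0 → ρ (qh p) m = ψ (φ ⬝ᵥ p.S *ᵥ star φ) • m}
  zero_mem' p _ := by simp
  add_mem' h1 h2 p hp := by rw [map_add, h1 p hp, h2 p hp, smul_add]
  smul_mem' c m h p hp := by rw [map_smul, h p hp, smul_comm]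

/-- representations of rank at most one -/
def RankOne : Prop := ⨆ φ, wt ψ ρ φ = ⊤

end

/-- the character is trivial on the scalars -/
def ZT (χ : IrrCharacter (Γ F ι)) : Prop := ∀ z, χ.1 ((mh F ι).sc z) = χ.1 1

/-- non-trivial irreducible characters of rank one, trivial on the scalars -/
def Small (ψ : AddChar F ℂ) (χ : IrrCharacter (Γ F ι)) : Prop :=
  χ ≠ IrrCharacter.triv _ ∧ ZT χ ∧
    ∃ (n : ℕ) (ρ : Representation ℂ (Γ F ι) (Fin n → ℂ)), ρ.character = χ.1 ∧ RankOne ψ ρ

/-- the sum of `χ` over the transvection group with centre `e_i` -/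
noncomputable def tsum (χ : Γ F ι → ℂ) (i : ι) : ℂ :=
  ∑ᶠ a : {a : F // a + star a = 0}, χ (HS.tv (ev_iso F i) a.2)

/-! ### the pieces -/

/-- the local lemma -/
def StLL : Prop := ∀ (G : Type u) [Group G] [Finite G] (Q T Z : Subgroup G) [Fintype Q],
  T ≤ Subgroup.normalizer (Q : Set G) → IsCyclic T → T ⊓ Q = ⊥ →
  Z ≤ Subgroup.centralizer (Q : Set G) → Z ≤ Q →
  (∀ t ∈ T, t ≠ 1 → ∀ y ∈ Q, ∃ x ∈ Q, ∃ z ∈ Z, t * y = x * (t * z) * x⁻¹) →
  ∀ (χ : G → ℂ) (θ : IrrCharacter Q) (N : ℕ), IsCharacter G χ →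
    classInner (fun y : Q => χ y) θ.1 ≠ 0 →
    N = Nat.card {t : T // ∀ y y' : Q, (y' : G) = t * y * (t : G)⁻¹ → θ.1 y' = θ.1 y} →
    (N ≤ charDegree θ.1 → ∑ᶠ t : T, χ t ≠ 0 ∧ Nat.card T ≤ charDegree χ) ∧
      (1 < charDegree θ.1 → N ≤ charDegree θ.1 + 1)

variable (F) [Fintype F] (q : ℕ) [UF F q]

/-- the Weil character -/
def StWeil : Prop := ∀ (V : Type u) [AddCommGroup V] [Module F V] [FiniteDimensional F V]
  (H : HS F V), IsCharacter H.GU (H.omega q)

/-- centralizers have no fixed vectors in odd dimension -/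
def StZero : Prop := ∀ (V : Type u) [AddCommGroup V] [Module F V] [FiniteDimensional F V]
  (H : HS F V), Odd (finrank F V) → ∀ x : H.GU,
    ∃ K ≤ Subgroup.centralizer ({x} : Set H.GU), ∑ᶠ k : K, H.omega q k = 0

/-- the stabiliser of `U` -/
def StPar : Prop := ∀ (ι : Type) [Fintype ι] [DecidableEq ι] (g : Γ F ι),
  (∀ u, (g.1 (u, 0, 0)).2 = 0) →
    ∃ (p : HQ F ι) (A : GL ι F) (z : unitary F), g = qh p * lh A * dh ι z

/-- generation -/
def StGen : Prop := ∀ (ι : Type) [Fintype ι] [DecidableEq ι] (i : ι) (N : Subgroup (Γ F ι)),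
  (∀ p, qh p ∈ N) → (∀ A, lh A ∈ N) → (∀ z, dh ι z ∈ N) → wv F i ∈ N → N = ⊤

/-- orbits on vectors -/
def StOrb : Prop := ∀ (ι : Type) [Fintype ι] [DecidableEq ι] [Nonempty ι],
  (∀ x y : MV F ι, x ≠ 0 → y ≠ 0 → (mh F ι).h x x = (mh F ι).h y y → ∃ g : Γ F ι, g.1 x = y) ∧
    ∀ x : MV F ι, ∃ g : Γ F ι, (g.1 x).2.1 = 0

/-- the normal closure of `Q` (uses `StGen`) -/
def StPerf : Prop := ∀ (ι : Type) [Fintype ι] [DecidableEq ι] [Nonempty ι],
  (2 * Fintype.card ι + 1).Coprime (q + 1) → ∀ N : Subgroup (Γ F ι), N.Normal →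
    (∀ p, qh p ∈ N) → (∀ z, (mh F ι).sc z ∈ N) → N = ⊤

/-- `PSU = GU / Z` -/
def StIso : Prop := ∀ (ι : Type) [Fintype ι] [DecidableEq ι] [Nonempty ι] (n : ℕ),
  n = 2 * Fintype.card ι + 1 → n.Coprime (q + 1) →
  ∃ (π : Γ F ι →* PSU n F q) (ε : Γ F ι →* unitary F), Function.Surjective π ∧
    π.ker = (mh F ι).sc.range ∧ (∀ z, ε ((mh F ι).sc z) = z) ∧
    Function.Surjective fun z => ε (dh ι z)

/-- the centralizer of the Singer cycle -/
def StCent : Prop := ∀ (ι : Type) [Fintype ι] [DecidableEq ι] (K : Type u) [Field K] [Algebra F K]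
  (b : Basis ι F K), 4 < Nat.card K → ∀ g : Γ F ι, (∀ β, Commute g (lh (sing b β))) →
    ∃ β z, g = lh (sing b β) * (mh F ι).sc z

/-- large or of rank one (uses `StLL`) -/
def StTor : Prop := ∀ (ι : Type) [Fintype ι] [DecidableEq ι] (K : Type u) [Field K] [Algebra F K]
  (b : Basis ι F K) (ψ : AddChar F ℂ), Psi ψ → ∀ (n : ℕ) (ρ : Representation ℂ (Γ F ι) (Fin n → ℂ)),
    (∑ᶠ β : Kˣ, ρ.character (lh (sing b β)) ≠ 0 ∧ Nat.card K - 1 ≤ n) ∨ RankOne ψ ρ

/-- rigidity of rank one modules (uses `StGen`) -/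
def StUniq : Prop := ∀ (κ : Type) [Fintype κ] [DecidableEq κ] [Nonempty κ] (ψ : AddChar F ℂ),
  Psi ψ → ∀ (M : Type) [AddCommGroup M] [Module ℂ M]
    (ρ : Representation ℂ (Γ F (κ ⊕ Unit)) M), RankOne ψ ρ → (∀ z, ρ ((mh F _).sc z) = 1) →
  ∀ Y : Submodule ℂ M, Y ≤ HS.plus ψ ρ (ev_iso F (.inr ())) →
    (∀ p : (mh F (κ ⊕ Unit)).SP (ev F (.inr ())), ∀ m ∈ Y, ρ p.toGU m ∈ Y) →
    (∀ z, ∀ m ∈ Y, ρ (dh _ z) m ∈ Y) →
    ∃ W : Submodule ℂ M, (∀ g, ∀ m ∈ W, ρ g m ∈ W) ∧ W ⊓ HS.plus ψ ρ (ev_iso F (.inr ())) = Y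

/-- at most `q + 1` small characters (uses `StUniq`, `StPerf`) -/
def StCount : Prop := ∀ (κ : Type) [Fintype κ] [DecidableEq κ] [Nonempty κ] (ψ : AddChar F ℂ),
  Psi ψ → (2 * Fintype.card (κ ⊕ Unit) + 1).Coprime (q + 1) →
    Nat.card {χ : IrrCharacter (Γ F (κ ⊕ Unit)) // Small ψ χ} ≤ q + 1

/-- dimension three: uniqueness -/
def StThree : Prop := Nat.Coprime 3 (q + 1) → ∀ χ χ' : IrrCharacter (Γ F Unit), ZT χ → ZT χ' →
  tsum χ.1 () = 0 → tsum χ'.1 () = 0 → χ = χ'

/-- dimension three: small characters (uses `StPerf`) -/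
def StThreeB : Prop := Nat.Coprime 3 (q + 1) → ∀ (ψ : AddChar F ℂ), Psi ψ →
  ∀ χ : IrrCharacter (Γ F Unit), Small ψ χ → tsum χ.1 () = 0 ∨ (q * (q - 1) < charDegree χ.1 ∧
    ∃ x, ∑ᶠ g : Subgroup.centralizer ({x} : Set (Γ F Unit)), χ.1 g ≠ 0)

end Cfsg.Uni
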