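import Cfsg.Agent.Uni.Defs
import Mathlib.Analysis.Fourier.FiniteAbelian.PontryaginDuality

/-!
# The field with `q ^ 2` elements and its involution
-/

set_option autoImplicit false

namespace Cfsg.Uni

open Polynomial

universe u

variable (F : Type u) [Field F] [Fintype F] [StarRing F] (q : ℕ) [UF F q]

include F in
theorem two_le_q : 2 ≤ q := by
  have h1 := Fintype.one_lt_card (α := F)
  rw [UF.card (F := F) (q := q)] at h1
  rcases q with _ | _ | q <;> simp_all

theorem card_roots_le (p : F[X]) (hp : p ≠ 0) (P : F → Prop) (h : ∀ x, P x → p.eval x = 0) :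
    Nat.card {x // P x} ≤ p.natDegree := by
  classical
  rw [Nat.card_eq_fintype_card, Fintype.card_subtype]
  refine le_trans (Finset.card_le_card fun x hx => ?_) (p.roots.toFinset_card_le.trans (card_roots' p))
  simpa [hp] using h x (by simpa using hx)

/-- the trace `x ↦ x + x̄` -/
def trc : F →+ F := AddMonoidHom.id F + starAddEquiv.toAddMonoidHom

/-- the norm `x ↦ x x̄` -/
def nrm : Fˣ →* Fˣ := Units.map (MonoidHom.id F * (starRingEnd F).toMonoidHom)

theorem card_aux : Nat.card {a : F // star a = a} = q ∧ Nat.card {a : F // a + star a = 0} = q ∧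
    ∀ s : F, star s = s → ∃ c, c + star c = s := by
  have hq := two_le_q F q
  have h1 : Nat.card {a : F // star a = a} ≤ q := by
    have hd : (X ^ q - X : F[X]).natDegree = q := FiniteField.X_pow_card_sub_X_natDegree_eq F (by omega)
    refine (card_roots_le F (X ^ q - X) (fun e => by simp [e] at hd; omega) _ fun x hx => ?_).trans hd.le
    simp [← UF.star_eq (F := F) (q := q), hx]
  have h2 : Nat.card {a : F // a + star a = 0} ≤ q := by
    have hd : (X ^ q + X : F[X]).natDegree = q := by
      rw [natDegree_add_eq_left_of_natDegree_lt] <;> simp; omega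
    refine (card_roots_le F (X ^ q + X) (fun e => by simp [e] at hd; omega) _ fun x hx => ?_).trans hd.le
    simp [← UF.star_eq (F := F) (q := q), add_comm, hx]
  have h3 : Nat.card (trc F).ker * Nat.card (trc F).range = q ^ 2 := by
    rw [← UF.card (F := F), ← Nat.card_eq_fintype_card, AddSubgroup.card_eq_card_quotient_mul_card_addSubgroup (trc F).ker,
      Nat.card_congr (QuotientAddGroup.quotientKerEquivRange (trc F)).toEquiv, mul_comm]
  have h4 : Nat.card (trc F).ker = Nat.card {a : F // a + star a = 0} := rfl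
  have hle : ((trc F).range : Set F) ⊆ {a | star a = a} := by
    rintro _ ⟨c, rfl⟩
    change star (c + star c) = c + star c
    rw [star_add, star_star, add_comm]
  have h5 : Nat.card (trc F).range ≤ Nat.card {a : F // star a = a} := Set.ncard_le_ncard hle
  have h6 : q ≤ Nat.card (trc F).range := by nlinarith
  refine ⟨by omega, by nlinarith, fun s hs => ?_⟩
  have := Set.eq_of_subset_of_ncard_le hle (h1.trans h6)
  have hs' : s ∈ ((trc F).range : Set F) := this ▸ hs
  exact hs'

theorem card_fixed : Nat.card {a : F // star a = a} = q := (card_aux F q).1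
theorem card_skew : Nat.card {a : F // a + star a = 0} = q := (card_aux F q).2.1

variable {F} in
include q in
theorem exists_trace {s : F} (hs : star s = s) : ∃ c : F, c + star c = s := (card_aux F q).2.2 s hs

include q in
theorem exists_star_ne : ∃ c : F, star c ≠ c := by
  by_contra! h
  have h1 := card_fixed F q
  rw [Nat.card_congr (Equiv.subtypeUnivEquiv h), Nat.card_eq_fintype_card, UF.card (F := F) (q := q)] at h1
  have := two_le_q F q
  nlinarith

include q in
theorem exists_skew_ne : ∃ b : F, b + star b = 0 ∧ b ≠ 0 := by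
  obtain ⟨c, hc⟩ := exists_star_ne F q
  exact ⟨c - star c, by simp, fun e => hc (sub_eq_zero.1 e).symm⟩

theorem card_aux2 : Nat.card (unitary F) = q + 1 ∧ ∀ s : F, star s = s → ∃ c, c * star c = s := by
  classical
  have hq := two_le_q F q
  have h2 : Nat.card (unitary F) ≤ q + 1 := by
    have hd : (X ^ (q + 1) - C 1 : F[X]).natDegree = q + 1 := natDegree_X_pow_sub_C
    refine (card_roots_le F _ (X_pow_sub_C_ne_zero (by omega) 1) (· ∈ unitary F) fun x hx => ?_).trans hd.le
    simp [pow_succ, ← UF.star_eq (F := F) (q := q), hx.1]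
  have h3 : Nat.card (nrm F).ker * Nat.card (nrm F).range = q ^ 2 - 1 := by
    rw [← UF.card (F := F), ← Nat.card_eq_fintype_card, ← Nat.card_units,
      Subgroup.card_eq_card_quotient_mul_card_subgroup (nrm F).ker,
      Nat.card_congr (QuotientGroup.quotientKerEquivRange (nrm F)).toEquiv, mul_comm]
  have h4 : Nat.card (nrm F).ker ≤ Nat.card (unitary F) :=
    Nat.card_le_card_of_injective (fun x => ⟨x.1.1, by
      have : x.1.1 * star x.1.1 = 1 := congrArg Units.val x.2
      exact ⟨by rw [mul_comm, this], this⟩⟩) fun x y e => Subtype.ext (Units.ext (congrArg Subtype.val e))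
  have hle : Units.val '' ((nrm F).range : Set Fˣ) ⊆ {a | star a = a} \ {0} := by
    rintro _ ⟨_, ⟨c, rfl⟩, rfl⟩
    refine ⟨?_, Units.ne_zero _⟩
    change star (c.1 * star c.1) = c.1 * star c.1
    rw [star_mul', star_star, mul_comm]
  have h7 : ({a : F | star a = a} \ {0}).ncard = q - 1 := by
    rw [Set.ncard_diff_singleton_of_mem (by simp)]
    exact congrArg (· - 1) (card_fixed F q)
  have h8 : (Units.val '' ((nrm F).range : Set Fˣ)).ncard = Nat.card (nrm F).range :=
    Set.ncard_image_of_injective _ Units.val_injective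
  have h5 := Set.ncard_le_ncard hle
  obtain ⟨r, rfl⟩ : ∃ r, q = r + 1 := ⟨q - 1, by omega⟩
  have h9 : (r + 1) ^ 2 - 1 = (r + 2) * r := by
    have : (r + 1) ^ 2 = (r + 2) * r + 1 := by ring
    omega
  simp only [Nat.add_sub_cancel] at h7
  have h6 : r ≤ Nat.card (nrm F).range := by nlinarith
  refine ⟨by nlinarith, fun s hs => ?_⟩
  by_cases h0 : s = 0
  · exact ⟨0, by simp [h0]⟩
  have := Set.eq_of_subset_of_ncard_le hle (by omega)
  obtain ⟨_, ⟨c, rfl⟩, e⟩ : s ∈ Units.val '' ((nrm F).range : Set Fˣ) := this ▸ ⟨hs, h0⟩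
  exact ⟨c.1, e⟩

theorem card_unitary : Nat.card (unitary F) = q + 1 := (card_aux2 F q).1

variable {F} in
include q in
theorem exists_norm {s : F} (hs : star s = s) : ∃ c : F, c * star c = s := (card_aux2 F q).2 s hs

include q in
theorem exists_unitary_ne : ∃ z : unitary F, z ≠ 1 := by
  have := two_le_q F q
  have : Nontrivial (unitary F) := Finite.one_lt_card_iff_nontrivial.1 (by rw [card_unitary F q]; omega)
  exact exists_ne 1

instance : IsCyclic (unitary F) :=
  isCyclic_of_injective_ringHom (unitary F).subtype Subtype.val_injective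

include q in
theorem exists_psi : ∃ ψ : AddChar F ℂ, Psi ψ := by
  obtain ⟨b, hb, h0⟩ := exists_skew_ne F q
  obtain ⟨ψ, hψ⟩ := AddChar.exists_apply_ne_zero.2 h0
  exact ⟨ψ, b, hb, hψ⟩

variable {F} {ψ : AddChar F ℂ}

/-- `ψ` is non-trivial on the multiples of `t` -/
theorem Psi.exists_mul (hψ : Psi ψ) {t : F} (ht : star t = t) (h0 : t ≠ 0) :
    ∃ a : F, a + star a = 0 ∧ ψ (t * a) ≠ 1 := by
  obtain ⟨a, ha, h⟩ := hψ
  refine ⟨a / t, by rw [star_div₀, ht, ← add_div, ha, zero_div], by rwa [mul_div_cancel₀ _ h0]⟩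

include q in
/-- `c ↦ ψ (c b - c̄ b̄)` is non-trivial -/
theorem Psi.exists_sub (hψ : Psi ψ) {b : F} (h0 : b ≠ 0) :
    ∃ c : F, ψ (c * b - star c * star b) ≠ 1 := by
  obtain ⟨a, ha, h⟩ := hψ
  obtain ⟨s, hs⟩ := exists_trace q (star_one F)
  refine ⟨s * a / b, ?_⟩
  have : star a = -a := by linear_combination ha
  rwa [← star_mul', div_mul_cancel₀ _ h0, star_mul', this,
    show s * a - star s * -a = a by linear_combination a * hs]

variable (F) in
/-- the skew elements -/
def sk : AddSubgroup F where
  carrier := {a | a + star a = 0}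
  zero_mem' := by simp
  add_mem' {a b} ha hb := by
    simp only [Set.mem_setOf_eq, star_add] at *; linear_combination ha + hb
  neg_mem' {a} ha := by simp only [Set.mem_setOf_eq, star_neg] at *; linear_combination -ha

variable (ψ) in
/-- `a ↦ ψ (t a)` on the skew elements -/
def skc (t : F) : AddChar (sk F) ℂ :=
  ψ.compAddMonoidHom ((AddMonoidHom.mulLeft t).comp (sk F).subtype)

theorem Psi.sum_skew [DecidableEq F] (hψ : Psi ψ) {t : F} (ht : star t = t) :
    ∑ a : {a : F // a + star a = 0}, ψ (t * a) = if t = 0 then (q : ℂ) else 0 := by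
  split_ifs with h0
  · simp [h0, ← Nat.card_eq_fintype_card, card_skew F q]
  obtain ⟨b, hb, h⟩ := hψ.exists_mul ht h0
  letI : Fintype (sk F) := inferInstanceAs (Fintype {a : F // a + star a = 0})
  exact (AddChar.sum_eq_zero_iff_ne_zero (ψ := skc ψ t)).2 fun e => h (DFunLike.congr_fun e ⟨b, hb⟩)

include q in
/-- every character of the skew elements is `a ↦ ψ (t a)` -/
theorem Psi.exists_skc (hψ : Psi ψ) (η : AddChar (sk F) ℂ) :
    ∃ t : F, star t = t ∧ ∀ a : sk F, η a = ψ (t * a) := by
  classical
  have hi : Function.Injective fun t : {a : F // star a = a} => skc ψ t.1 := fun t t' e => by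
    by_contra hne
    obtain ⟨a, ha, h⟩ := hψ.exists_mul (t := t.1 - t'.1) (by rw [star_sub, t.2, t'.2])
      fun e => hne (Subtype.ext (sub_eq_zero.1 e))
    have : ψ (t.1 * a) = ψ (t'.1 * a) := DFunLike.congr_fun e ⟨a, ha⟩
    rw [sub_mul, AddChar.map_sub_eq_div, this, div_self (AddChar.val_isUnit ψ _).ne_zero] at h
    exact h rfl
  obtain ⟨t, rfl⟩ := (hi.bijective_of_nat_card_le (by
    rw [card_fixed F q, Nat.card_eq_fintype_card, AddChar.card_eq, ← Nat.card_eq_fintype_card]
    exact (card_skew F q).le)).2 η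
  exact ⟨t.1, t.2, fun _ => rfl⟩

include q in
/-- every character of `F` is `c ↦ ψ (c b - c̄ b̄)` -/
theorem Psi.exists_addChar (hψ : Psi ψ) (η : AddChar F ℂ) :
    ∃ b : F, ∀ c, η c = ψ (c * b - star c * star b) := by
  classical
  let f : F → AddChar F ℂ := fun b => ψ.compAddMonoidHom
    (AddMonoidHom.mulRight b - (AddMonoidHom.mulRight (star b)).comp starAddEquiv.toAddMonoidHom)
  have hf : ∀ b c, f b c = ψ (c * b - star c * star b) := fun _ _ => rfl
  have hi : Function.Injective f := fun t t' e => by
    by_contra hne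
    obtain ⟨c, h⟩ := hψ.exists_sub q (sub_ne_zero.2 hne)
    have := DFunLike.congr_fun e c
    rw [hf, hf] at this
    rw [show c * (t - t') - star c * star (t - t') =
      (c * t - star c * star t) - (c * t' - star c * star t') by rw [star_sub]; ring,
      AddChar.map_sub_eq_div, this, div_self (AddChar.val_isUnit ψ _).ne_zero] at h
    exact h rfl
  obtain ⟨t, rfl⟩ := (hi.bijective_of_nat_card_le (by
    rw [Nat.card_eq_fintype_card, AddChar.card_eq, ← Nat.card_eq_fintype_card])).2 η
  exact ⟨t, hf t⟩

variable (F) in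
theorem card_norm_fiber [DecidableEq F] {t : F} (ht : star t = t) :
    Nat.card {c : F // c * star c = t} = if t = 0 then 1 else q + 1 := by
  split_ifs with h0
  · simp [h0]
  obtain ⟨c, rfl⟩ := exists_norm q ht
  have hc : c ≠ 0 := fun e => h0 (by simp [e])
  rw [← card_unitary F q]
  refine Nat.card_congr ((Equiv.mulLeft₀ c hc).subtypeEquiv fun z => ?_).symm
  have h1 : c * z * star (c * z) = c * star c * (z * star z) := by rw [star_mul']; ring
  simp only [Equiv.mulLeft₀_apply, h1, mul_eq_left₀ h0, Unitary.mem_iff, mul_comm (star z), and_self]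

/-- the Gauss sum -/
theorem Psi.gauss (hψ : Psi ψ) {b : F} (hb : b + star b = 0) (h0 : b ≠ 0) :
    ∑ c : F, ψ (c * star c * b) = -(q : ℂ) := by
  classical
  let N : F → {a : F // star a = a} := fun c => ⟨c * star c, by rw [star_mul', star_star, mul_comm]⟩
  have h1 : ∀ t : {a : F // star a = a}, ∑ c with N c = t, ψ (c * star c * b) =
      (q + 1) * ψ (t * b) - if t = ⟨0, star_zero F⟩ then (q : ℂ) else 0 := fun t => by
    rw [Finset.sum_congr rfl (g := fun _ => ψ (t * b)) fun c hc => by
      rw [← (Finset.mem_filter.1 hc).2], Finset.sum_const, ← Fintype.card_subtype,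
      ← Nat.card_eq_fintype_card]
    simp only [N, Subtype.ext_iff, card_norm_fiber F q t.2]
    split_ifs with h <;> simp [h]
  have h2 : ∑ t : {a : F // star a = a}, ψ (t * b) = 0 := by
    have := hψ.sum_skew q (star_one F)
    rw [if_neg one_ne_zero] at this
    rw [← this]
    have hb' : star b = -b := by linear_combination hb
    refine Fintype.sum_equiv ((Equiv.mulRight₀ b h0).subtypeEquiv fun t => ?_) _ _ fun t => by simp
    simp only [Equiv.mulRight₀_apply, star_mul', hb']
    rw [show t * b + star t * -b = (t - star t) * b by ring, mul_eq_zero, or_iff_left h0, sub_eq_zero,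
      eq_comm]
  rw [← Finset.sum_fiberwise Finset.univ N, Finset.sum_congr rfl fun t _ => h1 t,
    Finset.sum_sub_distrib, ← Finset.mul_sum, h2]
  simp

end Cfsg.Uni
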