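import Cfsg.Agent.Uni.Field

/-!
# The Weil character
-/

set_option autoImplicit false

namespace Cfsg.Uni

open Module
open scoped ComplexConjugate

universe u

variable {F : Type u} [Field F] [StarRing F] [Fintype F] (q : ℕ) [UF F q] {ψ : AddChar F ℂ}

theorem card_eq_pow (A : Type u) [AddCommGroup A] [Module F A] [Fintype A] :
    (Fintype.card A : ℂ) = (-(q : ℂ)) ^ (2 * finrank F A) := by
  rw [← Nat.card_eq_fintype_card, Module.natCard_eq_pow_finrank (K := F), Nat.card_eq_fintype_card,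
    UF.card (F := F) (q := q), pow_mul]; simp

theorem gauss_form (hψ : Psi ψ) {A : Type u} [AddCommGroup A] [Module F A] [Finite A] (β : A → A → F)
    (h1 : ∀ x y z, β (x + y) z = β x z + β y z) (h2 : ∀ (c : F) x y, β (c • x) y = c * β x y)
    (h3 : ∀ x y z, β x (y + z) = β x y + β x z) (h4 : ∀ (c : F) x y, β x (c • y) = star c * β x y)
    (W : Submodule F A) (hW : ∀ a ∈ W, β a a + star (β a a) = 0) :
    ∃ j : ℕ, ∑ᶠ a : W, ψ (β a a) = (-(q : ℂ)) ^ j := by
  classical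
  induction hd : finrank F W using Nat.strong_induction_on generalizing W with
  | _ d ih =>
  have := Fintype.ofFinite A
  by_cases h0 : ∀ a ∈ W, β a a = 0
  · refine ⟨2 * d, ?_⟩
    rw [finsum_eq_sum_of_fintype, Finset.sum_congr rfl fun a _ => by rw [h0 a.1 a.2]]
    simp [← hd, ← card_eq_pow q]
  push Not at h0
  obtain ⟨a, ha, hb⟩ := h0
  let f : A →ₗ[F] F := ⟨⟨fun x => β x a, fun x y => h1 x y a⟩, fun c x => h2 c x a⟩
  have hf : ∀ x, f x = β x a := fun _ => rfl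
  have h5 : ∀ (c : F) (w : ↥(W ⊓ LinearMap.ker f)),
      β (c • a + w) (c • a + w) = c * star c * β a a + c * β a w + β w w := fun c w => by
    have : β w a = 0 := w.2.2
    simp only [h1, h2, h3, h4, this]; ring
  have h6 : ∀ w : ↥(W ⊓ LinearMap.ker f), β a w = 0 := fun w => by
    by_contra h
    obtain ⟨s, hs⟩ := exists_trace q (star_one F)
    have := hW _ (W.add_mem (W.smul_mem (s / β a w) ha) w.2.1)
    rw [h5, div_mul_cancel₀ _ h] at this
    simp only [star_add, star_mul', star_star] at this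
    exact one_ne_zero (α := F) (by
      linear_combination this - hs - (s / β a w * star (s / β a w)) * hW a ha - hW w w.2.1)
  obtain ⟨j, hj⟩ := ih _ (hd ▸ Submodule.finrank_lt_finrank_of_lt
    (lt_of_le_of_ne inf_le_left fun e => hb (e.ge ha).2)) (W ⊓ LinearMap.ker f)
    (fun w hw => hW w hw.1) rfl
  let e : F × ↥(W ⊓ LinearMap.ker f) ≃ W :=
    { toFun p := ⟨p.1 • a + p.2, W.add_mem (W.smul_mem _ ha) p.2.2.1⟩
      invFun w := (f w / f a, ⟨w - (f w / f a) • a, W.sub_mem w.2 (W.smul_mem _ ha), by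
        simp [div_mul_cancel₀ _ (show f a ≠ 0 from hb)]⟩)
      left_inv p := by
        have : f p.2 = 0 := p.2.2.2
        ext <;> simp [this, show f a ≠ 0 from hb]
      right_inv w := by simp }
  refine ⟨j + 1, ?_⟩
  rw [finsum_eq_sum_of_fintype] at hj ⊢
  rw [← e.sum_comp, Fintype.sum_prod_type, pow_succ', ← hj, ← hψ.gauss q (hW a ha) hb,
    Finset.sum_mul_sum]
  refine Finset.sum_congr rfl fun c _ => Finset.sum_congr rfl fun w _ => ?_
  rw [← AddChar.map_add_eq_mul]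
  exact congrArg ψ ((h5 c w).trans (by rw [h6, mul_zero, add_zero]))

variable {V : Type u} [AddCommGroup V] [Module F V]

/-- the Heisenberg group -/
@[ext] structure Hs (H : HS F V) where
  v : V
  a : F

variable {H : HS F V}

instance : Mul (Hs H) := ⟨fun p r => ⟨p.v + r.v, p.a + r.a + H.h p.v r.v⟩⟩
instance : One (Hs H) := ⟨⟨0, 0⟩⟩
instance : Inv (Hs H) := ⟨fun p => ⟨-p.v, -p.a + H.h p.v p.v⟩⟩

section
omit [Fintype F]
@[simp] theorem Hs.mul_v (p r : Hs H) : (p * r).v = p.v + r.v := rfl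
@[simp] theorem Hs.mul_a (p r : Hs H) : (p * r).a = p.a + r.a + H.h p.v r.v := rfl
@[simp] theorem Hs.one_v : (1 : Hs H).v = 0 := rfl
@[simp] theorem Hs.one_a : (1 : Hs H).a = 0 := rfl
@[simp] theorem Hs.inv_v (p : Hs H) : p⁻¹.v = -p.v := rfl
@[simp] theorem Hs.inv_a (p : Hs H) : p⁻¹.a = -p.a + H.h p.v p.v := rfl

instance : Group (Hs H) := Group.ofLeftAxioms
  (fun a b c => Hs.ext (add_assoc _ _ _) (by simp [H.add_left, H.add_right]; ring))
  (fun a => Hs.ext (zero_add _) (by simp))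
  fun a => Hs.ext (neg_add_cancel _) (by simp [H.neg_left])

/-- coordinates -/
def Hs.equiv (H : HS F V) : Hs H ≃ V × F := ⟨fun p => (p.v, p.a), fun p => ⟨p.1, p.2⟩, fun _ => rfl, fun _ => rfl⟩

/-- the action of the unitary group -/
def Hs.act (g : H.GU) : Hs H ≃* Hs H where
  toFun p := ⟨g.1 p.v, p.a⟩
  invFun p := ⟨(g⁻¹).1 p.v, p.a⟩
  left_inv p := by simp
  right_inv p := by simp
  map_mul' p r := Hs.ext (map_add _ _ _) (by simp [H.iso])

@[simp] theorem Hs.act_v (g : H.GU) (p : Hs H) : (Hs.act g p).v = g.1 p.v := rfl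
@[simp] theorem Hs.act_a (g : H.GU) (p : Hs H) : (Hs.act g p).a = p.a := rfl
theorem Hs.act_mul (g k : H.GU) (p : Hs H) : Hs.act (g * k) p = Hs.act g (Hs.act k p) := rfl
theorem Hs.act_one (p : Hs H) : Hs.act 1 p = p := rfl
end

variable [Fintype V]

noncomputable instance : Fintype (Hs H) := Fintype.ofEquiv _ (Hs.equiv H).symm

theorem Hs.sum_eq (f : Hs H → ℂ) : ∑ p, f p = ∑ v, ∑ a, f ⟨v, a⟩ := by
  rw [← (Hs.equiv H).symm.sum_comp, Fintype.sum_prod_type]; rfl

theorem exists_heis [DecidableEq V] (hψ : Psi ψ) :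
    ∃ (n : ℕ) (ρ : Representation ℂ (Hs H) (Fin n → ℂ)), ρ.IsIrreducible ∧
      ∀ p, ρ.character p = if p.v = 0 then (q : ℂ) ^ finrank F V * ψ p.a else 0 := by
  classical
  obtain ⟨χ, hχ⟩ : ∃ χ : IrrCharacter (Hs H), ∑ a, ψ (-a) * χ.1 ⟨0, a⟩ ≠ 0 := by
    by_contra! h
    have h1 : ∑ χ : IrrCharacter (Hs H), χ.1 1 * ∑ a, ψ (-a) * χ.1 ⟨0, a⟩ = 0 := by simp [h]
    simp only [Finset.mul_sum, mul_left_comm (_ : ℂ) (ψ _)] at h1
    rw [Finset.sum_comm] at h1
    simp only [← Finset.mul_sum, sum_irr_one_mul, Hs.ext_iff] at h1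
    simpa [Nat.card_pos.ne'] using h1
  have h1 : ∀ b p, χ.1 (⟨0, b⟩ * p) = ψ b * χ.1 p := fun b p => by
    have hc : (⟨0, b⟩ : Hs H) ∈ charCenter χ.1 := χ.center_le_charCenter
      (Subgroup.mem_center_iff.2 fun g => by ext <;> simp [add_comm])
    obtain ⟨c, hc⟩ := mem_charCenter_def.1 hc
    rw [hc]
    congr 1
    have := Equiv.sum_comp (Equiv.addLeft b) fun a => ψ (-a) * χ.1 ⟨0, a⟩
    rw [Finset.sum_congr rfl (g := fun a => ψ (-b) * c * (ψ (-a) * χ.1 ⟨0, a⟩)) fun a _ => by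
      have : (⟨0, b + a⟩ : Hs H) = ⟨0, b⟩ * ⟨0, a⟩ := by ext <;> simp
      simp only [Equiv.coe_addLeft, this, hc, neg_add, AddChar.map_add_eq_mul]; ring,
      ← Finset.mul_sum, mul_eq_right₀ hχ, AddChar.map_neg_eq_inv,
      inv_mul_eq_one₀ (AddChar.val_isUnit ψ _).ne_zero] at this
    exact this.symm
  have h2 : ∀ p, χ.1 p = if p.v = 0 then (charDegree χ.1 : ℂ) * ψ p.a else 0 := fun p => by
    split_ifs with h
    · rw [show p = ⟨0, p.a⟩ * 1 by ext <;> simp [h], h1, χ.one_eq_charDegree]; simp [mul_comm]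
    · obtain ⟨w, hw⟩ := not_forall.1 fun e => h (H.nd _ e)
      obtain ⟨c, hc⟩ := hψ.exists_sub q (mt H.eq_zero_comm.1 hw)
      have := χ.isClassFunction p ⟨c • w, 0⟩
      rw [show ⟨c • w, 0⟩ * p * ⟨c • w, 0⟩⁻¹ = ⟨0, c * H.h w p.v - star c * star (H.h w p.v)⟩ * p by
        ext <;> simp [H.add_left, H.neg_right, H.smul_left, H.smul_right, H.star_h]; ring, h1] at this
      exact by_contra fun e => hc ((mul_eq_right₀ e).1 this)
  have h3 : charDegree χ.1 = q ^ finrank F V := by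
    have := χ.classInner_self
    have hF : (Fintype.card F : ℂ) ≠ 0 := by exact_mod_cast Fintype.card_ne_zero
    rw [classInner_def, inv_mul_eq_one₀ (by exact_mod_cast Nat.card_pos.ne'), Hs.sum_eq,
      Nat.card_congr (Hs.equiv H), Nat.card_prod] at this
    simp only [h2, apply_ite conj, ite_mul, mul_ite, map_mul, map_natCast, map_zero, mul_zero,
      zero_mul, mul_mul_mul_comm _ (ψ _), Complex.mul_conj', AddChar.norm_apply] at this
    simp [hF, card_eq_pow q (F := F) V, pow_mul', mul_comm] at this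
    refine Nat.mul_self_inj.1 (Nat.cast_injective (R := ℂ) ?_)
    push_cast
    rw [← this, pow_two, mul_pow]
  obtain ⟨n, ρ, h4, h5⟩ := χ.2
  exact ⟨n, ρ, h4, fun p => by rw [h5, h2, h3, Nat.cast_pow]⟩

section
variable {n : ℕ} (ρ : Representation ℂ (Hs H) (Fin n → ℂ))

/-- the intertwining operators -/
noncomputable def tw (g : H.GU) : Module.End ℂ (Fin n → ℂ) := ∑ x, ρ (Hs.act g x * x⁻¹)

omit [UF F q] in
theorem tw_mul (g : H.GU) (y : Hs H) : tw ρ g * ρ y = ρ (Hs.act g y) * tw ρ g := by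
  simp only [tw, Finset.sum_mul, Finset.mul_sum, ← map_mul]
  exact (Fintype.sum_equiv (Equiv.mulLeft y) _ _ fun x => by simp [mul_assoc]).symm

omit [UF F q] in
theorem tw_inv (g : H.GU) : tw ρ g⁻¹ = ∑ x, ρ (Hs.act g x * x⁻¹)⁻¹ :=
  (Fintype.sum_equiv (Hs.act g).toEquiv _ _ fun x => by
    simp [← Hs.act_mul, Hs.act_one]).symm

omit [UF F q] in
theorem tr_tw_tw (g k : H.GU) : LinearMap.trace ℂ _ (tw ρ g * tw ρ k) =
    ∑ x, ∑ y, ρ.character (Hs.act g x * x⁻¹ * (Hs.act k y * y⁻¹)) := by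
  simp only [tw, Finset.sum_mul_sum, ← map_mul, map_sum]; rfl

omit [UF F q] in
theorem tr_tw_inv (g k : H.GU) : LinearMap.trace ℂ _ (tw ρ k⁻¹ * tw ρ g⁻¹) =
    conj (LinearMap.trace ℂ _ (tw ρ g * tw ρ k)) := by
  rw [tr_tw_tw ρ g k, tw_inv, tw_inv, Finset.sum_mul_sum, Finset.sum_comm]
  simp only [map_sum, ← (isCharacter_of_rep ρ).apply_inv, ← map_mul, ← mul_inv_rev]; rfl

variable [DecidableEq V]
  (hθ : ∀ p, ρ.character p = if p.v = 0 then (q : ℂ) ^ finrank F V * ψ p.a else 0)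
include hθ

theorem tr_tw (g : H.GU) : LinearMap.trace ℂ _ (tw ρ g) =
    (q : ℂ) ^ finrank F V * (-(q : ℂ)) ^ (2 + 2 * finrank F (H.fix g)) := by
  classical
  let f : V → ℂ := fun v => if v ∈ H.fix g then (q : ℂ) ^ finrank F V else 0
  have : ∀ x : Hs H, LinearMap.trace ℂ _ (ρ (Hs.act g x * x⁻¹)) = f x.v := fun x => by
    refine (hθ _).trans ?_
    simp only [f, Hs.mul_v, Hs.act_v, Hs.inv_v, add_neg_eq_zero, HS.mem_fix]
    split_ifs with h <;> simp [h, H.neg_right]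
  simp only [tw, map_sum, this]
  rw [Hs.sum_eq]
  simp only [Finset.sum_const, Finset.card_univ, nsmul_eq_mul, ← Finset.mul_sum]
  rw [← Finset.sum_filter, Finset.sum_const, nsmul_eq_mul, ← Fintype.card_subtype,
    card_eq_pow q (F := F) (H.fix g), card_eq_pow q (F := F) F, finrank_self]
  ring

theorem tr_tw_gauss (hψ : Psi ψ) (g k : H.GU) : ∃ j : ℕ, LinearMap.trace ℂ _ (tw ρ g * tw ρ k) =
    (q : ℂ) ^ finrank F V * (-(q : ℂ)) ^ j := by
  classical
  let β : V × V → V × V → F := fun a b =>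
    -H.h (g.1 a.1 - a.1) b.1 - H.h (k.1 a.2 - a.2) b.2 + H.h (g.1 a.1 - a.1) (k.1 b.2 - b.2)
  let W := LinearMap.ker ((g.1.toLinearMap - 1).coprod (k.1.toLinearMap - 1))
  have hW : ∀ a, a ∈ W ↔ g.1 a.1 - a.1 + (k.1 a.2 - a.2) = 0 := fun _ => Iff.rfl
  obtain ⟨j, hj⟩ := gauss_form q hψ β
    (fun x y z => by simp [β, H.add_left, H.sub_left]; ring)
    (fun c x y => by simp [β, H.smul_left, H.sub_left]; ring)
    (fun x y z => by simp [β, H.add_right, H.sub_right]; ring)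
    (fun c x y => by simp [β, H.smul_right, H.sub_right]; ring) W fun a ha => by
      have h1 := H.iso g a.1 a.1
      have h2 := H.iso k a.2 a.2
      have h3 : k.1 a.2 = a.2 - (g.1 a.1 - a.1) := by rw [← sub_eq_zero, ← (hW a).1 ha]; abel
      simp only [β, h3, sub_sub_cancel_left, H.neg_left, H.neg_right, star_add, star_sub, star_neg,
        H.star_h]
      rw [h3] at h2
      rw [← sub_add_cancel (g.1 a.1) a.1] at h1
      generalize g.1 a.1 - a.1 = x at *
      simp only [H.add_left, H.add_right, H.sub_left, H.sub_right] at h1 h2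
      linear_combination -h1 - h2
  refine ⟨4 + j, ?_⟩
  have : ∀ x y : Hs H, ρ.character (Hs.act g x * x⁻¹ * (Hs.act k y * y⁻¹)) =
      if (x.v, y.v) ∈ W then (q : ℂ) ^ finrank F V * ψ (β (x.v, y.v) (x.v, y.v)) else 0 := fun x y => by
    rw [hθ]
    refine if_congr (by simp [hW, sub_eq_add_neg]) ?_ rfl
    congr 2
    simp [β, sub_eq_add_neg, H.add_left, H.add_right, H.neg_left, H.neg_right]
  simp only [tr_tw_tw, this, Hs.sum_eq, Finset.sum_const, Finset.card_univ, nsmul_eq_mul,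
    ← Finset.mul_sum, card_eq_pow q (F := F) F, finrank_self]
  rw [← Fintype.sum_prod_type', ← Finset.sum_filter, ← Finset.mul_sum, pow_add, ← hj,
    finsum_eq_sum_of_fintype, Finset.sum_subtype (p := (· ∈ W)) _ (fun _ => by simp)]
  ring

variable (hρ : ρ.IsIrreducible)
include hρ

theorem tw_tw_inv (g : H.GU) : tw ρ g * tw ρ g⁻¹ =
    (-(q : ℂ)) ^ (2 * (finrank F V + 2 + finrank F (H.fix g))) • 1 := by
  obtain ⟨c, hc⟩ := exists_eq_smul_one_of_commute ρ hρ (T := tw ρ g * tw ρ g⁻¹) fun y => by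
    rw [mul_assoc, tw_mul, ← mul_assoc, tw_mul, ← Hs.act_mul, mul_inv_cancel, Hs.act_one, mul_assoc]
  have hq : (q : ℂ) ≠ 0 := by have := two_le_q F q; exact_mod_cast (by omega : q ≠ 0)
  have h1 : LinearMap.trace ℂ _ (tw ρ g * tw ρ g⁻¹) =
      Fintype.card (Hs H) * LinearMap.trace ℂ _ (tw ρ g) := by
    rw [LinearMap.trace_mul_comm, tw_inv, tw]
    simp only [Finset.sum_mul_sum, ← map_mul, map_sum]
    rw [Finset.sum_congr rfl (g := fun _ => ∑ y, LinearMap.trace ℂ _ (ρ (Hs.act g y * y⁻¹)))]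
    · simp
    refine fun x _ => (Fintype.sum_equiv (Equiv.mulLeft x) _ _ fun y => ?_).symm
    have := ρ.char_conj (Hs.act g y * y⁻¹) x
    simpa [mul_assoc, Representation.character] using this.symm
  have h2 := hθ 1
  rw [hc, tr_tw q ρ hθ, Fintype.card_congr (Hs.equiv H), Fintype.card_prod, Nat.cast_mul,
    card_eq_pow q (F := F) F, card_eq_pow q (F := F) V, finrank_self, map_smul, ← map_one ρ] at h1
  rw [hc, mul_right_cancel₀ (pow_ne_zero (finrank F V) hq) (a := c)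
    (c := (-(q : ℂ)) ^ (2 * (finrank F V + 2 + finrank F (H.fix g))))]
  simp only [Representation.character, Hs.one_v, if_true, Hs.one_a, AddChar.map_zero_eq_one,
    mul_one] at h2
  rw [h2, smul_eq_mul] at h1
  rw [h1]; ring

theorem tw_tw (hψ : Psi ψ) (g k : H.GU) :
    (-(q : ℂ)) ^ (finrank F V + 2 + finrank F (H.fix (g * k))) • (tw ρ g * tw ρ k) =
      (-(q : ℂ)) ^ (finrank F V + 2 + finrank F (H.fix g) + (finrank F V + 2 + finrank F (H.fix k))) •
        tw ρ (g * k) := by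
  have hq2 := two_le_q F q
  have hq : (q : ℂ) ≠ 0 := by exact_mod_cast (by omega : q ≠ 0)
  have hq' : -(q : ℂ) ≠ 0 := neg_ne_zero.2 hq
  have h1 : ∀ g k : H.GU, ∃ c : ℂ, tw ρ g * tw ρ k = c • tw ρ (g * k) := fun g k => by
    obtain ⟨c, hc⟩ := exists_eq_smul_one_of_commute ρ hρ
      (T := tw ρ g * tw ρ k * tw ρ (g * k)⁻¹) fun y => by
        rw [mul_assoc, tw_mul, ← mul_assoc, mul_assoc _ (tw ρ k), tw_mul, ← mul_assoc, tw_mul,
          ← Hs.act_mul, ← Hs.act_mul, mul_inv_cancel, Hs.act_one]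
        simp only [mul_assoc]
    have := congrArg (· * tw ρ (g * k)⁻¹⁻¹) hc
    simp only [mul_assoc _ (tw ρ (g * k)⁻¹), tw_tw_inv q ρ hθ hρ] at this
    rw [mul_smul_comm, mul_one, smul_mul_assoc, one_mul, inv_inv,
      ← eq_inv_smul_iff₀ (pow_ne_zero _ hq'), smul_smul] at this
    exact ⟨_, this⟩
  have hfix : ∀ g : H.GU, H.fix g⁻¹ = H.fix g := fun g => by
    ext x; exact ⟨fun h : (g⁻¹).1 x = x => by rw [HS.mem_fix, ← h, HS.apply_inv_apply, h],
      fun h : g.1 x = x => by rw [HS.mem_fix, ← h, HS.inv_apply_apply, h]⟩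
  obtain ⟨c, hc⟩ := h1 g k
  obtain ⟨c', hc'⟩ := h1 k⁻¹ g⁻¹
  obtain ⟨j, hj⟩ := tr_tw_gauss q ρ hθ hψ g k
  have h2 := tr_tw_inv ρ g k
  rw [hj, hc', ← mul_inv_rev, map_smul, tr_tw q ρ hθ, hfix] at h2
  simp only [map_mul, map_pow, map_neg, map_natCast] at h2
  rw [hc, map_smul, tr_tw q ρ hθ] at hj
  obtain rfl : c' = c := smul_left_injective ℂ (by positivity) (h2.trans hj.symm)
  have h3 : tw ρ g * tw ρ k * (tw ρ k⁻¹ * tw ρ g⁻¹) =
      ((-(q : ℂ)) ^ (2 * (finrank F V + 2 + finrank F (H.fix k))) *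
        (-(q : ℂ)) ^ (2 * (finrank F V + 2 + finrank F (H.fix g)))) • 1 := by
    rw [mul_assoc, ← mul_assoc (tw ρ k), tw_tw_inv q ρ hθ hρ, smul_mul_assoc, one_mul, mul_smul_comm,
      tw_tw_inv q ρ hθ hρ, smul_smul]
  have := rep_nontrivial_of_isIrreducible hρ
  rw [hc, hc', ← mul_inv_rev, smul_mul_smul_comm, tw_tw_inv q ρ hθ hρ, smul_smul] at h3
  have h4 := smul_left_injective ℂ one_ne_zero h3
  rw [smul_eq_mul, mul_left_comm, mul_right_inj' (pow_ne_zero _ hq)] at hj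
  rw [hc, smul_smul]
  congr 1
  generalize finrank F (H.fix (g * k)) = d at *
  generalize finrank F V + 2 + finrank F (H.fix g) = a at *
  generalize finrank F V + 2 + finrank F (H.fix k) = b at *
  generalize finrank F V + 2 = e at *
  have h5 : (-(q : ℂ)) ^ (2 * (a + b + (2 + 2 * d))) = (-(q : ℂ)) ^ (2 * (e + d + j)) := by
    linear_combination (-(-(q : ℂ)) ^ (2 * (2 + 2 * d))) * h4 + (-(q : ℂ)) ^ (2 * (e + d)) *
      (c' * (-(q : ℂ)) ^ (2 + 2 * d) + (-(q : ℂ)) ^ j) * hj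
  rw [(even_two_mul _).neg_pow, (even_two_mul _).neg_pow] at h5
  have h6 := Nat.pow_right_injective hq2 (by exact_mod_cast h5 : q ^ _ = q ^ _)
  refine mul_right_cancel₀ (pow_ne_zero (2 + 2 * d) hq') ?_
  rw [mul_assoc, hj, ← pow_add, ← pow_add]
  congr 1; omega

end

variable (F) in
theorem stWeil : StWeil F q := fun V _ _ _ H => by
  classical
  have := Module.finite_of_finite F (M := V)
  have := Fintype.ofFinite V
  have hq : (q : ℂ) ≠ 0 := by have := two_le_q F q; exact_mod_cast (by omega : q ≠ 0)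
  have hq' : -(q : ℂ) ≠ 0 := neg_ne_zero.2 hq
  obtain ⟨ψ, hψ⟩ := exists_psi F q
  obtain ⟨n, ρ, hρ, hθ⟩ := exists_heis q (H := H) hψ
  refine ⟨n,
    { toFun g := ((-(q : ℂ)) ^ (finrank F V + 2 + finrank F (H.fix g)))⁻¹ • tw ρ g
      map_one' := ?_
      map_mul' g k := ?_ }, funext fun g => ?_⟩
  · have : H.fix 1 = ⊤ := by ext; simp
    rw [inv_smul_eq_iff₀ (pow_ne_zero _ hq'), this, finrank_top]
    simp only [tw, Hs.act_one, mul_inv_cancel, map_one, Finset.sum_const, Finset.card_univ,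
      Fintype.card_congr (Hs.equiv H), Fintype.card_prod, ← Nat.cast_smul_eq_nsmul ℂ, Nat.cast_mul,
      card_eq_pow q (F := F) F, card_eq_pow q (F := F) V, finrank_self]
    congr 1; ring
  · rw [smul_mul_smul_comm, ← mul_inv, ← pow_add, eq_inv_smul_iff₀ (pow_ne_zero _ hq'), smul_comm,
      ← tw_tw q ρ hθ hρ hψ, inv_smul_smul₀ (pow_ne_zero _ hq')]
  · simp only [Representation.character, MonoidHom.coe_mk, OneHom.coe_mk, map_smul, tr_tw q ρ hθ,
      HS.omega, smul_eq_mul]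
    rw [inv_mul_eq_iff_eq_mul₀ (pow_ne_zero _ hq'), show (q : ℂ) ^ finrank F V =
      (-(q : ℂ)) ^ finrank F V * (-1) ^ finrank F V by rw [← mul_pow]; simp]
    ring

end Cfsg.Uni
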